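import Groth.Agent.Sga3B.Parab.EtHom
import Groth.Agent.Desc.LQF
import Mathlib.AlgebraicGeometry.Morphisms.QuasiFinite

/-!
# Fibrewise dominance of `P ×_S Q ⟶ G`

`DenseAt p q s`: `P ×_S Q ⟶ G` is dominant on the fibre over `s`.  It is stable under étale base
change.
-/

set_option autoImplicit false

universe u

open CategoryTheory MonoidalCategory CartesianMonoidalCategory MonObj GrpObj AlgebraicGeometry

namespace Groth.Agent.RedSub.H661.Dense

open Groth.Agent.Sga3B Groth.Agent.Sga3B.Parab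

variable {S S' : Scheme.{u}} {G P Q : Over S} [GrpObj G]

/-- Points of a cartesian square. -/
lemma exists_point {A B C D : Scheme.{u}} {f : A ⟶ B} {g : A ⟶ C} {h : B ⟶ D} {k : C ⟶ D}
    (H : IsPullback f g h k) (b : B) (c : C) (e : h b = k c) : ∃ a : A, f a = b ∧ g a = c := by
  obtain ⟨z, hz1, hz2⟩ := Scheme.Pullback.exists_preimage_pullback (f := h) (g := k) b c e
  refine ⟨H.isoPullback.inv z, ?_, ?_⟩
  · rw [← Scheme.Hom.comp_apply, H.isoPullback_inv_fst, hz1]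
  · rw [← Scheme.Hom.comp_apply, H.isoPullback_inv_snd, hz2]

/-- `P ×_S Q ⟶ G` is dominant on the fibre over `s`. -/
def DenseAt (p : P ⟶ G) (q : Q ⟶ G) (s : S) : Prop :=
  G.hom.base ⁻¹' {s} ⊆ closure (((p ⊗ₘ q) ≫ μ[G]).left.base '' ((P ⊗ Q).hom.base ⁻¹' {s}))

/-- Reformulation: every open subset of `G` meeting the fibre over `s` meets the image of the fibre. -/
theorem denseAt_iff {p : P ⟶ G} {q : Q ⟶ G} {s : S} : DenseAt p q s ↔
    ∀ (O : Set G.left) (_ : IsOpen O) (x : G.left) (_ : x ∈ O) (_ : G.hom x = s),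
      ∃ w : (P ⊗ Q).left, (P ⊗ Q).hom w = s ∧ ((p ⊗ₘ q) ≫ μ[G]).left w ∈ O := by
  constructor
  · intro h O hO x hx hxs
    obtain ⟨_, hy, ⟨w, hw, rfl⟩⟩ := mem_closure_iff.1 (h (show x ∈ G.hom.base ⁻¹' {s} from hxs)) O hO hx
    exact ⟨w, hw, hy⟩
  · intro h x hx
    rw [mem_closure_iff]
    intro O hO hxO
    obtain ⟨w, hw, hw'⟩ := h O hO x hxO hx
    exact ⟨_, hw', ⟨w, hw, rfl⟩⟩

/-- The multiplication map and base change. -/
lemma map_mul_comp (f : S' ⟶ S) {A B H : Over S} [GrpObj H] (a : A ⟶ H) (b : B ⟶ H) :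
    ((Over.pullback f).map a ⊗ₘ (Over.pullback f).map b) ≫ μ[Red.bc f H] =
      Functor.LaxMonoidal.μ (Over.pullback f) A B ≫ (Over.pullback f).map ((a ⊗ₘ b) ≫ μ[H]) := by
  rw [Functor.map_comp, Functor.obj.μ_def, Functor.LaxMonoidal.μ_natural_assoc]

/-- Dominance on a fibre is stable under étale base change. -/
theorem DenseAt.bc (f : S' ⟶ S) [Etale f] {p : P ⟶ G} {q : Q ⟶ G} {s' : S'}
    (h : DenseAt p q (f s')) :
    DenseAt ((Over.pullback f).map p) ((Over.pullback f).map q) s' := by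
  rw [denseAt_iff] at h ⊢
  intro O hO x hxO hxs
  have hqf : LocallyQuasiFinite f := Desc.LQF.of_etale f
  have hdisc := f.isDiscrete_preimage_singleton (f s')
  obtain ⟨V, hV, hVs⟩ : ∃ V : Set S', IsOpen V ∧ V ∩ f ⁻¹' {f s'} = {s'} := by
    have h1 : s' ∈ f ⁻¹' {f s'} := rfl
    obtain ⟨V, hV, hVs⟩ := isDiscrete_iff_forall_mem_exists_isOpen.1 hdisc s' h1
    exact ⟨V, hV, hVs⟩
  have hopen : IsOpenMap (EtHom.pr f G) := by
    have : Etale (EtHom.pr f G) := inferInstanceAs (Etale (Limits.pullback.fst G.hom f))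
    exact (EtHom.pr f G).isOpenMap
  let O' : Set (Red.bc f G).left := O ∩ (Red.bc f G).hom ⁻¹' V
  have hO' : IsOpen O' := hO.inter (hV.preimage (Red.bc f G).hom.continuous)
  have hs' : s' ∈ V := by
    have : s' ∈ V ∩ f ⁻¹' {f s'} := by rw [hVs]; rfl
    exact this.1
  have hxO' : x ∈ O' := ⟨hxO, by change (Red.bc f G).hom x ∈ V; rw [hxs]; exact hs'⟩
  have hcomp : ∀ y : (Red.bc f G).left, G.hom (EtHom.pr f G y) = f ((Red.bc f G).hom y) := by
    intro y
    have h1 : EtHom.pr f G ≫ G.hom = (Red.bc f G).hom ≫ f := Limits.pullback.condition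
    rw [← Scheme.Hom.comp_apply, ← Scheme.Hom.comp_apply, h1]
  obtain ⟨w, hw, x', hx', hx''⟩ := h _ (hopen _ hO') (EtHom.pr f G x) ⟨x, hxO', rfl⟩
    (by rw [hcomp, hxs])
  obtain ⟨z, hz1, hz2⟩ := exists_point (EtHom.isPullback_map f ((p ⊗ₘ q) ≫ μ[G])) w x' hx''.symm
  have h3 : (Red.bc f (P ⊗ Q)).hom z = (Red.bc f G).hom x' := by
    rw [← hz2, ← Scheme.Hom.comp_apply, Over.w]
  have h4 : (Red.bc f G).hom x' = s' := by
    have h5 : (Red.bc f G).hom x' ∈ V ∩ f ⁻¹' {f s'} := by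
      refine ⟨hx'.2, ?_⟩
      change f ((Red.bc f G).hom x') = f s'
      rw [← hcomp, hx'', ← hw, ← Scheme.Hom.comp_apply, Over.w]
    rw [hVs] at h5
    exact h5
  let j : Red.bc f P ⊗ Red.bc f Q ≅ Red.bc f (P ⊗ Q) :=
    asIso (Functor.LaxMonoidal.μ (Over.pullback f) P Q)
  have hj : ((Over.pullback f).map p ⊗ₘ (Over.pullback f).map q) ≫ μ[Red.bc f G] =
      j.hom ≫ (Over.pullback f).map ((p ⊗ₘ q) ≫ μ[G]) := map_mul_comp f p q
  have hjj : j.inv.left ≫ j.hom.left = 𝟙 _ := by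
    rw [← Over.comp_left, Iso.inv_hom_id]
    rfl
  refine ⟨j.inv.left z, ?_, ?_⟩
  · rw [← Scheme.Hom.comp_apply, Over.w, h3, h4]
  · rw [hj, Over.comp_left, ← Scheme.Hom.comp_apply, ← Category.assoc, hjj, Category.id_comp, hz2]
    exact hx'.1

end Groth.Agent.RedSub.H661.Dense
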