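import Groth.Prelude.Def_Red
import Groth.Agent.S0115

/-!
# Smoothness of a multiplication map from the smoothness of a smaller one

`P`, `Q` are smooth `S`-groups over the `S`-group `G`, `u : U ⟶ P`, `v : V ⟶ Q` are morphisms of
`S`-schemes, smooth and surjective over `S`.  If `U ×_S V ⟶ G`, `(x, y) ↦ p(u(x)) q(v(y))` is smooth
then `P ×_S Q ⟶ G` is smooth.
-/

set_option autoImplicit false

universe u

open CategoryTheory MonoidalCategory CartesianMonoidalCategory MonObj GrpObj AlgebraicGeometry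

namespace Groth.Agent.RedSub.H661.SmoothMul

variable {S : Scheme.{u}}

section General

variable (W : MorphismProperty Scheme.{u}) [W.IsStableUnderBaseChange]

lemma isPullback_whiskerLeft (Z : Over S) {X Y : Over S} (f : X ⟶ Y) :
    IsPullback (Z ◁ f).left (snd Z X).left (snd Z Y).left f.left := by
  have h : IsPullback (Z ◁ f) (snd Z X) (snd Z Y) f := by
    refine ⟨⟨by simp⟩, ⟨Limits.PullbackCone.IsLimit.mk _
      (fun s => lift (s.fst ≫ fst _ _) s.snd) ?_ ?_ ?_⟩⟩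
    · intro s
      apply CartesianMonoidalCategory.hom_ext
      · simp
      · simp [s.condition]
    · intro s
      simp
    · intro s m h1 h2
      apply CartesianMonoidalCategory.hom_ext
      · simp [← h1]
      · simp [← h2]
  exact h.map (Over.forget _)

lemma isPullback_whiskerRight (Z : Over S) {X Y : Over S} (f : X ⟶ Y) :
    IsPullback (f ▷ Z).left (fst X Z).left (fst Y Z).left f.left := by
  have h : IsPullback (f ▷ Z) (fst X Z) (fst Y Z) f := by
    refine ⟨⟨by simp⟩, ⟨Limits.PullbackCone.IsLimit.mk _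
      (fun s => lift s.snd (s.fst ≫ snd _ _)) ?_ ?_ ?_⟩⟩
    · intro s
      apply CartesianMonoidalCategory.hom_ext
      · simp [s.condition]
      · simp
    · intro s
      simp
    · intro s m h1 h2
      apply CartesianMonoidalCategory.hom_ext
      · simp [← h2]
      · simp [← h1]
  exact h.map (Over.forget _)

/-- A property stable under base change passes to `Z ◁ f`. -/
lemma whiskerLeft_left (Z : Over S) {X Y : Over S} (f : X ⟶ Y) (h : W f.left) :
    W (Z ◁ f).left :=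
  W.of_isPullback (isPullback_whiskerLeft Z f).flip h

/-- A property stable under base change passes to `f ▷ Z`. -/
lemma whiskerRight_left (Z : Over S) {X Y : Over S} (f : X ⟶ Y) (h : W f.left) :
    W (f ▷ Z).left :=
  W.of_isPullback (isPullback_whiskerRight Z f).flip h

lemma snd_left (X Y : Over S) (h : W X.hom) : W (snd X Y).left :=
  W.pullback_snd X.hom Y.hom h

lemma fst_left (X Y : Over S) (h : W Y.hom) : W (fst X Y).left :=
  W.pullback_fst X.hom Y.hom h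

end General

lemma isIso_left {X Y : Over S} (e : X ≅ Y) : IsIso e.hom.left :=
  inferInstanceAs (IsIso ((Over.forget S).mapIso e).hom)

section Group

variable {G P X Y Z U : Over S} [GrpObj G] [GrpObj P]

/-- The product of two morphisms to a group. -/
lemma tensor_mul (a : X ⟶ G) (b : Y ⟶ G) :
    (a ⊗ₘ b) ≫ μ[G] = (fst X Y ≫ a) * (snd X Y ≫ b) := by
  rw [Hom.mul_def]
  congr 1

lemma lift_tensor_mul (a : X ⟶ G) (b : Y ⟶ G) (x : Z ⟶ X) (y : Z ⟶ Y) :
    lift x y ≫ (a ⊗ₘ b) ≫ μ[G] = (x ≫ a) * (y ≫ b) := by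
  rw [tensor_mul, MonObj.comp_mul, lift_fst_assoc, lift_snd_assoc]

/-- `(x, g) ↦ a(x) g` is the composite of an automorphism and the projection. -/
lemma left_mul_left (W : MorphismProperty Scheme.{u}) [W.IsStableUnderBaseChange]
    (a : X ⟶ G) (h : W X.hom) : W ((a ⊗ₘ 𝟙 G) ≫ μ[G]).left := by
  let φ : X ⊗ G ⟶ X ⊗ G := lift (fst X G) ((a ⊗ₘ 𝟙 G) ≫ μ[G])
  let ψ : X ⊗ G ⟶ X ⊗ G := lift (fst X G) ((fst X G ≫ a)⁻¹ * snd X G)
  have h1 : φ ≫ ψ = 𝟙 _ := by
    ext1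
    · simp [φ, ψ]
    · rw [Category.assoc, lift_snd, MonObj.comp_mul, GrpObj.comp_inv, ← Category.assoc, lift_fst,
        lift_snd, tensor_mul, Category.comp_id, Category.id_comp, inv_mul_cancel_left]
  have h2 : ψ ≫ φ = 𝟙 _ := by
    ext1
    · simp [φ, ψ]
    · rw [Category.assoc, lift_snd, lift_tensor_mul, Category.comp_id, Category.id_comp,
        mul_inv_cancel_left]
  let e : X ⊗ G ≅ X ⊗ G := ⟨φ, ψ, h1, h2⟩
  have h3 : (a ⊗ₘ 𝟙 G) ≫ μ[G] = e.hom ≫ snd X G := (lift_snd _ _).symm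
  have h4 : IsIso e.hom.left := isIso_left e
  rw [h3, Over.comp_left]
  exact (W.cancel_left_of_respectsIso _ _).2 (snd_left W X G h)

/-- `(g, y) ↦ g b(y)` is the composite of an automorphism and the projection. -/
lemma right_mul_left (W : MorphismProperty Scheme.{u}) [W.IsStableUnderBaseChange]
    (b : Y ⟶ G) (h : W Y.hom) : W ((𝟙 G ⊗ₘ b) ≫ μ[G]).left := by
  let φ : G ⊗ Y ⟶ G ⊗ Y := lift ((𝟙 G ⊗ₘ b) ≫ μ[G]) (snd G Y)
  let ψ : G ⊗ Y ⟶ G ⊗ Y := lift (fst G Y * (snd G Y ≫ b)⁻¹) (snd G Y)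
  have h1 : φ ≫ ψ = 𝟙 _ := by
    ext1
    · rw [Category.assoc, lift_fst, MonObj.comp_mul, GrpObj.comp_inv, ← Category.assoc, lift_fst,
        lift_snd, tensor_mul, Category.comp_id, Category.id_comp, mul_inv_cancel_right]
    · simp [φ, ψ]
  have h2 : ψ ≫ φ = 𝟙 _ := by
    ext1
    · rw [Category.assoc, lift_fst, lift_tensor_mul, Category.comp_id, Category.id_comp,
        inv_mul_cancel_right]
    · simp [φ, ψ]
  let e : G ⊗ Y ≅ G ⊗ Y := ⟨φ, ψ, h1, h2⟩
  have h3 : (𝟙 G ⊗ₘ b) ≫ μ[G] = e.hom ≫ fst G Y := (lift_fst _ _).symm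
  have h4 : IsIso e.hom.left := isIso_left e
  rw [h3, Over.comp_left]
  exact (W.cancel_left_of_respectsIso _ _).2 (fst_left W G Y h)

/-- The first factor can be enlarged. -/
theorem smooth_left (p : P ⟶ G) [IsMonHom p] (u : U ⟶ P) (b : Y ⟶ G) (hP : Smooth P.hom)
    (hU : Smooth U.hom) (hU' : Surjective U.hom)
    (h : Smooth (((u ≫ p) ⊗ₘ b) ≫ μ[G]).left) : Smooth ((p ⊗ₘ b) ≫ μ[G]).left := by
  -- `((a, x), y) ↦ (a u(x), y)`
  let m₁ : P ⊗ U ⟶ P := (𝟙 P ⊗ₘ u) ≫ μ[P]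
  have hm₁ : Smooth m₁.left := right_mul_left @Smooth u hU
  have hm₁' : Surjective m₁.left := right_mul_left @Surjective u hU'
  have h1 : Smooth (m₁ ▷ Y).left := whiskerRight_left @Smooth Y m₁ hm₁
  have h2 : Surjective (m₁ ▷ Y).left := whiskerRight_left @Surjective Y m₁ hm₁'
  have h3 : Smooth (P ◁ (((u ≫ p) ⊗ₘ b) ≫ μ[G])).left := whiskerLeft_left @Smooth P _ h
  have h4 : Smooth ((p ⊗ₘ 𝟙 G) ≫ μ[G]).left := left_mul_left @Smooth p hP
  have h5 : m₁ ▷ Y ≫ (p ⊗ₘ b) ≫ μ[G] =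
      (α_ P U Y).hom ≫ (P ◁ (((u ≫ p) ⊗ₘ b) ≫ μ[G])) ≫ (p ⊗ₘ 𝟙 G) ≫ μ[G] := by
    rw [tensor_mul p b, tensor_mul p (𝟙 G), MonObj.comp_mul, MonObj.comp_mul, MonObj.comp_mul]
    simp only [whiskerRight_fst_assoc, whiskerRight_snd_assoc, whiskerLeft_fst_assoc,
      associator_hom_fst_assoc, Category.comp_id, tensor_mul, m₁,
      MonObj.comp_mul, MonObj.mul_comp, Category.assoc]
    simp [MonObj.comp_mul, _root_.mul_assoc]
  have h6 : Smooth ((m₁ ▷ Y).left ≫ ((p ⊗ₘ b) ≫ μ[G]).left) := by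
    rw [← Over.comp_left, h5, Over.comp_left, Over.comp_left]
    have : IsIso (α_ P U Y).hom.left := isIso_left _
    infer_instance
  exact Groth.Agent.S0115.result (m₁ ▷ Y).left _

/-- The second factor can be enlarged. -/
theorem smooth_right {Q V : Over S} [GrpObj Q] (q : Q ⟶ G) [IsMonHom q] (v : V ⟶ Q) (a : X ⟶ G)
    (hQ : Smooth Q.hom) (hV : Smooth V.hom) (hV' : Surjective V.hom)
    (h : Smooth ((a ⊗ₘ (v ≫ q)) ≫ μ[G]).left) : Smooth ((a ⊗ₘ q) ≫ μ[G]).left := by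
  let m₁ : V ⊗ Q ⟶ Q := (v ⊗ₘ 𝟙 Q) ≫ μ[Q]
  have hm₁ : Smooth m₁.left := left_mul_left @Smooth v hV
  have hm₁' : Surjective m₁.left := left_mul_left @Surjective v hV'
  have h1 : Smooth (X ◁ m₁).left := whiskerLeft_left @Smooth X m₁ hm₁
  have h2 : Surjective (X ◁ m₁).left := whiskerLeft_left @Surjective X m₁ hm₁'
  have h3 : Smooth ((((a ⊗ₘ (v ≫ q)) ≫ μ[G])) ▷ Q).left := whiskerRight_left @Smooth Q _ h
  have h4 : Smooth ((𝟙 G ⊗ₘ q) ≫ μ[G]).left := right_mul_left @Smooth q hQ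
  have h5 : X ◁ m₁ ≫ (a ⊗ₘ q) ≫ μ[G] =
      (α_ X V Q).inv ≫ (((a ⊗ₘ (v ≫ q)) ≫ μ[G]) ▷ Q) ≫ (𝟙 G ⊗ₘ q) ≫ μ[G] := by
    rw [tensor_mul a q, tensor_mul (𝟙 G) q, MonObj.comp_mul, MonObj.comp_mul, MonObj.comp_mul]
    simp only [whiskerRight_snd_assoc, whiskerLeft_fst_assoc,
      whiskerLeft_snd_assoc, Category.comp_id, tensor_mul, m₁,
      MonObj.comp_mul, MonObj.mul_comp, Category.assoc]
    simp [MonObj.comp_mul, _root_.mul_assoc]
  have h6 : Smooth ((X ◁ m₁).left ≫ ((a ⊗ₘ q) ≫ μ[G]).left) := by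
    rw [← Over.comp_left, h5, Over.comp_left, Over.comp_left]
    have : IsIso (α_ X V Q).inv.left := isIso_left (α_ X V Q).symm
    infer_instance
  exact Groth.Agent.S0115.result (X ◁ m₁).left _

/-- The structure morphism of a group scheme is surjective. -/
lemma surjective_hom (G : Over S) [GrpObj G] : Surjective G.hom := by
  have h : η[G].left ≫ G.hom = (𝟙_ (Over S)).hom := Over.w _
  have h2 : Surjective (η[G].left ≫ G.hom) := by
    rw [h]
    exact inferInstanceAs (Surjective (𝟙 S))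
  exact Surjective.of_comp η[G].left G.hom

/-- **Smoothness of `P ×_S Q ⟶ G`** follows from that of `U ×_S V ⟶ G` for smooth groups `U`, `V`
over `P`, `Q`. -/
theorem smooth_mul {Q V : Over S} [GrpObj Q] [GrpObj U] [GrpObj V] (p : P ⟶ G) (q : Q ⟶ G)
    [IsMonHom p] [IsMonHom q] (u : U ⟶ P) (v : V ⟶ Q) (hP : Smooth P.hom) (hQ : Smooth Q.hom)
    (hU : Smooth U.hom) (hV : Smooth V.hom)
    (h : Smooth (((u ≫ p) ⊗ₘ (v ≫ q)) ≫ μ[G]).left) : Smooth ((p ⊗ₘ q) ≫ μ[G]).left :=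
  smooth_left p u q hP hU (surjective_hom U)
    (smooth_right q v (u ≫ p) hQ hV (surjective_hom V) h)

end Group

end Groth.Agent.RedSub.H661.SmoothMul
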