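import Groth.Agent.RedSub.H661.SixAt
import Groth.Agent.RedSub.H661.Dense
import Groth.Agent.Sga3B.Parab.LCBc
import Groth.Agent.FlatA.EtaleSections
import Groth.Agent.Sga3B.Parab.RedCover147
import Groth.Agent.RedSub.H661.SmoothMul

/-!
# From fibrewise dominance to Borel subgroups in transversal position

Data over `S`: Borel subgroups `B`, `B⁻` of `G` with `B ∩ B⁻ = T` a maximal torus, `U ⊆ B` such that
`U ×_S B⁻ ⟶ G` is an open immersion, `B ⊆ P`, and a section `h` of `G` with `h B⁻ h⁻¹ ⊆ Q`.  If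
`P ×_S Q ⟶ G` is dominant on the fibre over `s` then, over an étale neighbourhood of `s`, some
conjugate of `(B, B⁻)` is contained in `(P, Q)`.
-/

set_option autoImplicit false
set_option linter.unusedSectionVars false

universe u

open CategoryTheory MonoidalCategory CartesianMonoidalCategory MonObj GrpObj AlgebraicGeometry

namespace Groth.Agent.RedSub.H661.Core

open Groth.Agent.Sga3B Groth.Agent.Sga3B.Parab Groth.Agent.Sga3B.Parab.ConjPt
open Groth.Agent.RedSub.H661.SixAt Groth.Agent.RedSub.H661.Dense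

variable {S S' : Scheme.{u}} {G H P Q : Over S} [GrpObj G]

/-- Conjugation by `γ` carries `H` into `P`. -/
def Tr (i : H ⟶ G) (p : P ⟶ G) {X : Over S} (γ : X ⟶ G) : Prop :=
  ∀ (X' : Over S) (x : X' ⟶ X) (y : X' ⟶ H), Mem p ((x ≫ γ) * (y ≫ i) * (x ≫ γ)⁻¹)

lemma tr_of_conj {i : H ⟶ G} {p : P ⟶ G} {X : Over S} {γ : X ⟶ G} (h : Conj i p γ) :
    Tr i p γ := fun X' x y => (h X' x (y ≫ i)).1 ⟨y, rfl⟩

lemma Tr.comp {i : H ⟶ G} {p : P ⟶ G} {X X' : Over S} {γ : X ⟶ G} (h : Tr i p γ) (x : X' ⟶ X) :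
    Tr i p (x ≫ γ) := by
  intro X'' x' y
  have := h X'' (x' ≫ x) y
  rwa [Category.assoc] at this

lemma Tr.trans {i : H ⟶ G} {p : P ⟶ G} {q : Q ⟶ G} {X : Over S} {γ : X ⟶ G} (h : Tr i p γ)
    (a : P ⟶ Q) (ha : a ≫ q = p) : Tr i q γ := by
  intro X' x y
  obtain ⟨w, hw⟩ := h X' x y
  exact ⟨w ≫ a, by rw [Category.assoc, ha, hw]⟩

/-- Base change. -/
lemma Tr.bc (f : S' ⟶ S) {i : H ⟶ G} {p : P ⟶ G} {X : Over S'} {γ : (Over.map f).obj X ⟶ G}
    (h : Tr i p γ) :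
    Tr ((Over.pullback f).map i) ((Over.pullback f).map p) (DSPts.bcEquiv f X G γ) := by
  intro X' x y
  obtain ⟨y, rfl⟩ : ∃ y' : (Over.map f).obj X' ⟶ H,
      (Over.mapPullbackAdj f).homEquiv X' H y' = y :=
    ⟨_, ((Over.mapPullbackAdj f).homEquiv X' H).apply_symm_apply y⟩
  have hy : ((Over.mapPullbackAdj f).homEquiv X' H y) ≫ (Over.pullback f).map i =
      DSPts.bcEquiv f X' G (y ≫ i) :=
    ((Over.mapPullbackAdj f).homEquiv_naturality_right y i).symm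
  obtain ⟨w, hw⟩ := h _ ((Over.map f).map x) y
  refine ⟨(Over.mapPullbackAdj f).homEquiv X' P w, ?_⟩
  have hwp : ((Over.mapPullbackAdj f).homEquiv X' P w) ≫ (Over.pullback f).map p =
      DSPts.bcEquiv f X' G (w ≫ p) :=
    ((Over.mapPullbackAdj f).homEquiv_naturality_right w p).symm
  rw [hwp, hy, hw, DSPts.bcEquiv_naturality, map_mul, map_mul, map_inv]

/-- The étale neighbourhood as a point over itself. -/
noncomputable def unitPt (f : S' ⟶ S) : (Over.map f).obj (𝟙_ (Over S')) ⟶ Over.mk f :=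
  Over.homMk (𝟙 S') (by
    change 𝟙 _ ≫ f = 𝟙 _ ≫ f
    rfl)

/-- Conjugation by a section, as an isomorphism of groups. -/
noncomputable def innerIso (γ : 𝟙_ (Over S) ⟶ G) : G ≅ G where
  hom := (toUnit G ≫ γ) * 𝟙 G * (toUnit G ≫ γ)⁻¹
  inv := (toUnit G ≫ γ)⁻¹ * 𝟙 G * (toUnit G ≫ γ)
  hom_inv_id := by
    rw [MonObj.comp_mul, MonObj.comp_mul, GrpObj.comp_inv, Category.comp_id, ← Category.assoc,
      toUnit_unique (_ ≫ toUnit G) (toUnit G)]
    group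
  inv_hom_id := by
    rw [MonObj.comp_mul, MonObj.comp_mul, GrpObj.comp_inv, Category.comp_id, ← Category.assoc,
      toUnit_unique (_ ≫ toUnit G) (toUnit G)]
    group

lemma comp_innerIso (γ : 𝟙_ (Over S) ⟶ G) {X : Over S} (x : X ⟶ G) :
    x ≫ (innerIso γ).hom = (toUnit X ≫ γ) * x * (toUnit X ≫ γ)⁻¹ := by
  change x ≫ ((toUnit G ≫ γ) * 𝟙 G * (toUnit G ≫ γ)⁻¹) = _
  rw [MonObj.comp_mul, MonObj.comp_mul, GrpObj.comp_inv, Category.comp_id, ← Category.assoc,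
      toUnit_unique (x ≫ toUnit G) (toUnit X)]

instance isMonHom_innerIso (γ : 𝟙_ (Over S) ⟶ G) : IsMonHom (innerIso γ).hom := by
  apply Pts.isMonHom_of_points
  intro X x y
  rw [comp_innerIso, comp_innerIso, comp_innerIso]
  group

/-- Transversal Borel subgroups inside `P`, `Q`. -/
def Body [GrpObj P] [GrpObj Q] (p : P ⟶ G) (q : Q ⟶ G) : Prop :=
  ∃ (B B' T : Over S) (_ : GrpObj B) (_ : GrpObj B') (_ : GrpObj T) (c : B ⟶ P)
      (c' : B' ⟶ Q) (t : T ⟶ B) (t' : T ⟶ B'),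
      Red.IsBorel (c ≫ p) ∧ Red.IsBorel (c' ≫ q) ∧
      IsMonHom t ∧ IsPullback t t' (c ≫ p) (c' ≫ q) ∧
      Red.IsMaximalTorus (t ≫ c ≫ p)

/-- A conjugate of a transversal pair is transversal. -/
theorem body_of_tr [GrpObj P] [GrpObj Q] {p : P ⟶ G} {q : Q ⟶ G} {B B' T : Over S} [GrpObj B]
    [GrpObj B'] [GrpObj T] {b : B ⟶ G} {b' : B' ⟶ G} {t : T ⟶ B} {t' : T ⟶ B'}
    (hb : Red.IsBorel b) (hb' : Red.IsBorel b') (ht : IsMonHom t) (hpb : IsPullback t t' b b')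
    (hT : Red.IsMaximalTorus (t ≫ b)) (γ : 𝟙_ (Over S) ⟶ G) (h : Tr b p γ) (h' : Tr b' q γ) :
    Body p q := by
  obtain ⟨c, hc⟩ := h B (toUnit B) (𝟙 B)
  obtain ⟨c', hc'⟩ := h' B' (toUnit B') (𝟙 B')
  rw [Category.id_comp, ← comp_innerIso] at hc hc'
  let e : Grp.mk G ≅ Grp.mk G := Grp.mkIso' (innerIso γ)
  have he : e.hom.hom.hom = (innerIso γ).hom := rfl
  refine ⟨B, B', T, inferInstance, inferInstance, inferInstance, c, c', t, t', ?_, ?_, ht, ?_, ?_⟩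
  · rw [hc]
    exact isBorel_comp_iso hb e
  · rw [hc']
    exact isBorel_comp_iso hb' e
  · rw [hc, hc']
    exact isPullback_comp_mono hpb _
  · rw [hc]
    have := isMaximalTorus_comp_iso hT e
    rw [Category.assoc] at this
    exact this

/-- The base change of a transversal pair conjugate into `P`, `Q`. -/
theorem body_bc_of_tr [GrpObj P] [GrpObj Q] {p : P ⟶ G} {q : Q ⟶ G} {B B' T : Over S} [GrpObj B]
    [GrpObj B'] [GrpObj T] {b : B ⟶ G} {b' : B' ⟶ G} {t : T ⟶ B} {t' : T ⟶ B'}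
    (hb : Red.IsBorel b) (hb' : Red.IsBorel b') (ht : IsMonHom t) (hpb : IsPullback t t' b b')
    (hT : Red.IsMaximalTorus (t ≫ b)) (f : S' ⟶ S) [Etale f] (γ : Over.mk f ⟶ G) (h : Tr b p γ)
    (h' : Tr b' q γ) : Body ((Over.pullback f).map p) ((Over.pullback f).map q) := by
  have hqf : LocallyQuasiFinite f := Desc.LQF.of_etale f
  refine body_of_tr (RedCover147.isBorel_bc f hb) (RedCover147.isBorel_bc f hb')
    (inferInstance : IsMonHom ((Over.pullback f).map t)) (hpb.map (Over.pullback f)) ?_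
    (DSPts.bcEquiv f _ G (unitPt f ≫ γ)) ((h.comp (unitPt f)).bc f) ((h'.comp (unitPt f)).bc f)
  rw [← Functor.map_comp]
  exact AlgBc.isMaximalTorus_bc f hT

section Main

variable {U B B' : Over S} [GrpObj P] [GrpObj Q] [GrpObj B] [GrpObj B']

/-- `(x, y) ↦ x⁻¹ y h` -/
noncomputable def phi (p : P ⟶ G) (q : Q ⟶ G) (h : 𝟙_ (Over S) ⟶ G) : P ⊗ Q ⟶ G :=
  (fst P Q ≫ p)⁻¹ * (snd P Q ≫ q) * (toUnit _ ≫ h)

/-- `(x, y) ↦ (x⁻¹, y)` -/
noncomputable def sig (P Q : Over S) [GrpObj P] : P ⊗ Q ⟶ P ⊗ Q := lift (fst P Q)⁻¹ (snd P Q)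

lemma sig_sig (P Q : Over S) [GrpObj P] : sig P Q ≫ sig P Q = 𝟙 _ := by
  ext1
  · rw [Category.assoc, sig, lift_fst, GrpObj.comp_inv, lift_fst, _root_.inv_inv, Category.id_comp]
  · rw [Category.assoc, sig, lift_snd, lift_snd, Category.id_comp]

/-- right translation by `h` -/
noncomputable def tau (h : 𝟙_ (Over S) ⟶ G) : G ⟶ G := 𝟙 G * (toUnit G ≫ h)

lemma comp_tau (h : 𝟙_ (Over S) ⟶ G) {X : Over S} (x : X ⟶ G) :
    x ≫ tau h = x * (toUnit X ≫ h) := by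
  rw [tau, MonObj.comp_mul, Category.comp_id, ← Category.assoc,
    toUnit_unique (x ≫ toUnit G) (toUnit X)]

omit [GrpObj Q] in
lemma phi_eq (p : P ⟶ G) (q : Q ⟶ G) [IsMonHom p] (h : 𝟙_ (Over S) ⟶ G) :
    phi p q h = sig P Q ≫ ((p ⊗ₘ q) ≫ μ[G]) ≫ tau h := by
  have h1 : sig P Q ≫ (p ⊗ₘ q) ≫ μ[G] = (fst P Q ≫ p)⁻¹ * (snd P Q ≫ q) := by
    rw [sig, ← Category.assoc, lift_map, ← Hom.mul_def, GrpObj.inv_comp]
  rw [← Category.assoc, h1, comp_tau, phi]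

/-- Dominance: some point over `s` is carried by `(x, y) ↦ x⁻¹ y h` to a given neighbourhood of the
unit section. -/
theorem exists_point_of_dense {p : P ⟶ G} {q : Q ⟶ G} [IsMonHom p] (h : 𝟙_ (Over S) ⟶ G) {s : S}
    (hd : DenseAt p q s) (O : Set G.left) (hO : IsOpen O) (h1 : ∀ s : S, η[G].left s ∈ O) :
    ∃ w : (P ⊗ Q).left, (P ⊗ Q).hom w = s ∧ (phi p q h).left w ∈ O := by
  rw [denseAt_iff] at hd
  have h2 : h⁻¹ ≫ tau h = η[G] := by
    rw [comp_tau, toUnit_unique (toUnit (𝟙_ (Over S))) (𝟙 _), Category.id_comp, inv_mul_cancel,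
      Hom.one_def, toUnit_unique (toUnit (𝟙_ (Over S))) (𝟙 _), Category.id_comp]
  obtain ⟨w, hw, hw'⟩ := hd ((tau h).left ⁻¹' O) (hO.preimage (tau h).left.continuous)
    ((h⁻¹ : 𝟙_ (Over S) ⟶ G).left s) (by
      change (tau h).left ((h⁻¹ : 𝟙_ (Over S) ⟶ G).left s) ∈ O
      rw [← Scheme.Hom.comp_apply, ← Over.comp_left, h2]
      exact h1 s) (by
      rw [← Scheme.Hom.comp_apply, Over.w]
      rfl)
  refine ⟨(sig P Q).left w, ?_, ?_⟩
  · rw [← Scheme.Hom.comp_apply, Over.w, hw]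
  · rw [phi_eq, ← Scheme.Hom.comp_apply, ← Over.comp_left, ← Category.assoc, sig_sig,
      Category.id_comp, Over.comp_left, Scheme.Hom.comp_apply]
    exact hw'

/-- **Fibrewise dominance gives transversal Borel subgroups étale locally.** -/
theorem six_of_dense {T : Over S} [GrpObj T] {p : P ⟶ G} {q : Q ⟶ G} [IsMonHom p] [IsMonHom q]
    (hP : Smooth P.hom) (hQ : Smooth Q.hom)
    {b : B ⟶ G} {b' : B' ⟶ G} {t : T ⟶ B} {t' : T ⟶ B'} (hb : Red.IsBorel b) (hb' : Red.IsBorel b')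
    (ht : IsMonHom t) (hpb : IsPullback t t' b b') (hT : Red.IsMaximalTorus (t ≫ b))
    [GrpObj U] (u : U ⟶ B) [IsMonHom u] (hu : IsOpenImmersion (((u ≫ b) ⊗ₘ b') ≫ μ[G]).left)
    (a : B ⟶ P) (ha : a ≫ p = b) (h : 𝟙_ (Over S) ⟶ G) (hh : Tr b' q h) {s : S}
    (hd : DenseAt p q s) : Six p q s := by
  have hbm := hb.1
  have hbm' := hb'.1
  -- the open subset `U B⁻`
  obtain ⟨c, hcdef⟩ : ∃ c : U ⊗ B' ⟶ G, c = ((u ≫ b) ⊗ₘ b') ≫ μ[G] := ⟨_, rfl⟩
  have hc : IsOpenImmersion c.left := by rw [hcdef]; exact hu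
  have h1 : ∀ s : S, η[G].left s ∈ Set.range c.left := by
    intro s
    have h2 : lift (1 : 𝟙_ (Over S) ⟶ U) 1 ≫ c = η[G] := by
      rw [hcdef, ← Category.assoc, lift_map, ← Hom.mul_def, MonObj.one_comp, MonObj.one_comp,
        _root_.mul_one, Hom.one_def, toUnit_unique (toUnit (𝟙_ (Over S))) (𝟙 _), Category.id_comp]
    rw [← h2, Over.comp_left]
    exact ⟨(lift (1 : 𝟙_ (Over S) ⟶ U) (1 : 𝟙_ (Over S) ⟶ B')).left s,
      (Scheme.Hom.comp_apply _ _ _).symm⟩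
  obtain ⟨w, hws, v, hv⟩ := exists_point_of_dense h hd _ c.left.isOpenEmbedding.isOpen_range h1
  -- the fibre product
  obtain ⟨W, π₁, π₂, hW⟩ : ∃ (W : Over S) (π₁ : W ⟶ P ⊗ Q) (π₂ : W ⟶ U ⊗ B'),
      IsPullback π₁ π₂ (phi p q h) c := ⟨_, _, _, IsPullback.of_hasPullback (phi p q h) c⟩
  have hW' : IsPullback π₁.left π₂.left (phi p q h).left c.left := hW.map (Over.forget S)
  have hWo : IsOpenImmersion π₁.left := MorphismProperty.of_isPullback hW'.flip hc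
  have hPQ : Smooth (P ⊗ Q).hom := by
    change Smooth (Limits.pullback.fst P.hom Q.hom ≫ P.hom)
    infer_instance
  have hWs : Smooth W.hom := by
    rw [← Over.w π₁]
    infer_instance
  obtain ⟨w', hw', -⟩ := exists_point hW' w v hv.symm
  have hs : s ∈ Set.range W.hom := by
    refine ⟨w', ?_⟩
    rw [← Over.w π₁, Scheme.Hom.comp_apply, hw', hws]
  obtain ⟨S', f, s', hf, hs', j, hj⟩ := FlatA.EtaleSections.exists_section W.hom s hs
  let x : Over.mk f ⟶ W := Over.homMk j hj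
  let α : Over.mk f ⟶ P := x ≫ π₁ ≫ fst P Q
  let β : Over.mk f ⟶ Q := x ≫ π₁ ≫ snd P Q
  let υ : Over.mk f ⟶ U := x ≫ π₂ ≫ fst U B'
  let ρ : Over.mk f ⟶ B' := x ≫ π₂ ≫ snd U B'
  have hrel : (α ≫ p)⁻¹ * (β ≫ q) * (toUnit (Over.mk f) ≫ h) = (υ ≫ u ≫ b) * (ρ ≫ b') := by
    have h2 : x ≫ π₁ ≫ phi p q h = x ≫ π₂ ≫ c := by rw [hW.w]
    have h3 : x ≫ π₁ ≫ phi p q h =
        (α ≫ p)⁻¹ * (β ≫ q) * (toUnit (Over.mk f) ≫ h) := by
      have h6 : x ≫ π₁ ≫ toUnit (P ⊗ Q) ≫ h = toUnit (Over.mk f) ≫ h := by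
        rw [← Category.assoc, ← Category.assoc, toUnit_unique ((x ≫ π₁) ≫ toUnit (P ⊗ Q))
          (toUnit (Over.mk f))]
      rw [phi, MonObj.comp_mul, MonObj.comp_mul, MonObj.comp_mul, MonObj.comp_mul,
        GrpObj.comp_inv, GrpObj.comp_inv, h6]
      simp only [α, β, Category.assoc]
    have h4 : x ≫ π₂ ≫ c = (υ ≫ u ≫ b) * (ρ ≫ b') := by
      have h5 : c = (fst U B' ≫ u ≫ b) * (snd U B' ≫ b') := by
        rw [hcdef]
        exact SmoothMul.tensor_mul _ _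
      rw [h5, MonObj.comp_mul, MonObj.comp_mul]
      simp only [υ, ρ, Category.assoc]
    rw [← h3, h2, h4]
  -- the conjugating point
  let γ : Over.mk f ⟶ G := (α ≫ p) * (υ ≫ u ≫ b)
  have hγ : γ = (β ≫ q) * (toUnit (Over.mk f) ≫ h) * (ρ ≫ b')⁻¹ := by
    have h2 : (β ≫ q) * (toUnit (Over.mk f) ≫ h) = (α ≫ p) * ((υ ≫ u ≫ b) * (ρ ≫ b')) := by
      rw [← hrel]
      group
    rw [h2]
    change (α ≫ p) * (υ ≫ u ≫ b) = _
    group
  have hTr : Tr b p γ := by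
    intro X' x' y
    refine ⟨(x' ≫ α) * (((x' ≫ υ ≫ u) * y * (x' ≫ υ ≫ u)⁻¹) ≫ a) * (x' ≫ α)⁻¹, ?_⟩
    change _ = (x' ≫ ((α ≫ p) * (υ ≫ u ≫ b))) * (y ≫ b) * (x' ≫ ((α ≫ p) * (υ ≫ u ≫ b)))⁻¹
    rw [MonObj.mul_comp, MonObj.mul_comp, GrpObj.inv_comp, Category.assoc _ a p, ha,
      MonObj.mul_comp, MonObj.mul_comp, GrpObj.inv_comp, MonObj.comp_mul]
    simp only [Category.assoc]
    group
  have hTr' : Tr b' q γ := by
    intro X' x' y
    obtain ⟨w₀, hw₀⟩ := hh X' (toUnit X') ((x' ≫ ρ)⁻¹ * y * (x' ≫ ρ))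
    refine ⟨(x' ≫ β) * w₀ * (x' ≫ β)⁻¹, ?_⟩
    rw [MonObj.mul_comp, MonObj.mul_comp, GrpObj.inv_comp, hw₀, hγ, MonObj.comp_mul,
      MonObj.comp_mul, GrpObj.comp_inv, MonObj.mul_comp, MonObj.mul_comp, GrpObj.inv_comp,
      ← Category.assoc x' (toUnit (Over.mk f)),
      toUnit_unique (x' ≫ toUnit (Over.mk f)) (toUnit X')]
    simp only [Category.assoc]
    group
  exact ⟨S', f, hf, ⟨s', hs'⟩, body_bc_of_tr hb hb' ht hpb hT f γ hTr hTr'⟩

end Main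

end Groth.Agent.RedSub.H661.Core
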