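import Groth.Agent.Sga3B.Parab.BorelEt165
import Groth.Agent.Sga3B.Parab.Uncond688
import Groth.Agent.Sga3B.Parab.OppPts172
import Groth.Agent.Sga3B.Parab.OppS172
import Groth.Agent.Sga3B.TorClosed636

/-!
# Borel subgroups `P_G(ν)` inside a given `P_G(λ)`

* `isBorel_of_isDynZ`: if `Z_G(λ)` is a torus then `P_G(λ)` is a Borel subgroup.
* `exists_cone_refine`: a positive cone in `M` refining a half space.
* `exists_refine`: `T` a split maximal torus of the reductive group `G`, `x` a cocharacter of `T`;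
  locally on the base there is a cocharacter `ν` of `T` with `P_G(ν) ⊆ P_G(x)`, `Z_G(ν) = T`.
-/

set_option autoImplicit false
set_option linter.unusedSectionVars false

universe u

open CategoryTheory MonoidalCategory CartesianMonoidalCategory MonObj GrpObj AlgebraicGeometry

namespace Groth.Agent.RedSub.H661.Refine

open Groth.Agent.Sga3B Groth.Agent.Sga3B.Parab Groth.Agent.Sga3B.Parab.OrbM156
open Groth.Agent.Sga3B.Parab.RedCover147 Groth.Agent.Sga3B.Parab.DynExist998
open Groth.Agent.Sga3B.Parab.DynBc998 Groth.Agent.Sga3B.Parab.Chart998 Groth.Agent.Sga3B.Parab.Rep998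

variable {S : Scheme.{u}} {G P T Z : Over S} [GrpObj G] [GrpObj P] [GrpObj T] [GrpObj Z]

/-- If `Z_G(λ)` is a torus then `P_G(λ)` is a Borel subgroup. -/
theorem isBorel_of_isDynZ (hG : Red.IsReductive G) (lam : Red.Gm S ⟶ G) [IsMonHom lam] {z : Z ⟶ G}
    (hz : IsDynZ lam z) (hZ : Red.IsTorus Z) {p : P ⟶ G} (hp : IsDynP lam p) : Red.IsBorel p := by
  have hGa : IsAffineHom G.hom := hG.1
  have hGs : Smooth G.hom := hG.2.1
  refine ⟨hp.isMonHom, hp.isClosedImmersion, hp.smooth, fun t => ?_⟩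
  exact DynBorel128.isBorelOver_of_isDynP Uncond688.dynK1 (hG.2.2 t) _ (hz.bc (Red.geomPt t))
    (TorusBc.isTorus_bc (Red.geomPt t) hZ) (hp.bc (Red.geomPt t))

/-- `Z_G(-λ) = Z_G(λ)` -/
theorem isDynZ_neg [IsAffineHom G.hom] (lam : Red.Gm S ⟶ G) [IsMonHom lam] {z : Z ⟶ G}
    (hz : IsDynZ lam z) : IsDynZ (negLam lam) z where
  isMonHom := hz.isMonHom
  mono := hz.mono
  iff_ptZ X g := by rw [hz.iff_ptZ, OppPts172.ptZ_negLam]

section Cone

variable {M : Type} [AddCommGroup M]

/-- `N` is, on finite sets, the set of non-negative elements for a linear form which vanishes only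
at `0`. -/
def IsCone (N : AddSubmonoid M) : Prop :=
  ∀ F : Finset M, ∃ ν : M →+ ℤ, (∀ m ∈ F, m ∈ N ↔ 0 ≤ ν m) ∧ ∀ m ∈ F, ν m = 0 → m = 0

/-- A positive cone contained in a half space. -/
theorem exists_cone_refine {N : AddSubmonoid M} (hN : IsCone N) (x : M →+ ℤ) :
    ∃ N' : AddSubmonoid M, (∀ m ∈ N', 0 ≤ x m) ∧ IsCone N' := by
  classical
  refine ⟨{ carrier := {m | 0 < x m ∨ (x m = 0 ∧ m ∈ N)}
            zero_mem' := Or.inr ⟨map_zero x, N.zero_mem⟩
            add_mem' := ?_ }, ?_, fun F => ?_⟩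
  · intro m n h h'
    simp only [Set.mem_ofPred_eq, map_add] at h h' ⊢
    rcases h with h | ⟨h, hm⟩ <;> rcases h' with h' | ⟨h', hn⟩
    · left; omega
    · left; omega
    · left; omega
    · right; exact ⟨by omega, N.add_mem hm hn⟩
  · rintro m (h | ⟨h, -⟩)
    · exact h.le
    · exact h.ge
  · obtain ⟨ν, h1, h2⟩ := hN F
    let k : ℤ := 1 + ∑ m ∈ F, |ν m|
    have hk : ∀ m ∈ F, |ν m| < k := by
      intro m hm
      have := Finset.single_le_sum (f := fun m : M => |ν m|) (fun _ _ => abs_nonneg _) hm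
      change |ν m| ≤ ∑ m ∈ F, |ν m| at this
      omega
    refine ⟨k • x + ν, fun m hm => ?_, fun m hm h => ?_⟩
    · have hk' := abs_lt.mp (hk _ hm)
      have h1' := h1 m hm
      change (0 < x m ∨ (x m = 0 ∧ m ∈ N)) ↔ 0 ≤ k • x m + ν m
      rw [smul_eq_mul]
      rcases lt_trichotomy (x m) 0 with ha | ha | ha
      · constructor
        · rintro (h | ⟨h, -⟩) <;> omega
        · intro h
          nlinarith
      · rw [ha, mul_zero, zero_add, h1']
        simp
      · constructor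
        · intro _
          nlinarith
        · intro _
          exact Or.inl ha
    · have hk' := abs_lt.mp (hk _ hm)
      change k • x m + ν m = 0 at h
      rw [smul_eq_mul] at h
      have ha : x m = 0 := by
        rcases lt_trichotomy (x m) 0 with ha | ha | ha
        · nlinarith
        · exact ha
        · nlinarith
      rw [ha, mul_zero, zero_add] at h
      exact h2 m hm h

end Cone

section

variable {M : Type} [AddCommGroup M] {J : Red.DS S M ⟶ G} [IsMonHom J]

/-- Points with weights in a submonoid of the half space `x ≥ 0` belong to `P_G(x)`. -/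
theorem ptP_of_ptT {N : AddSubmonoid M} (x : M →+ ℤ) (hN : ∀ m ∈ N, 0 ≤ x m)
    [IsAffineHom G.hom] {X : Over S} {g : X ⟶ G} (h : PtT J (AddSubmonoid.toSubmonoid N) g) :
    PtP (lamN J x) g := by
  intro C _ c y
  obtain ⟨A, _, _, e, _⟩ := exists_chart (G := G) c
  have hc := hcR (r := c)
  obtain ⟨g', hg'⟩ := (pt_bijective e hc).2 (y ≫ g)
  have h1 := h C c y
  rw [← hg', qt_pt_iff] at h1
  rw [← hg', limEx_lamN_iff]
  intro m hm a ha
  exact h1 m (fun hmN => absurd (hN m.toAdd hmN) (not_le.2 hm)) a ha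

end

/-- **Refinement.** `T` a split maximal torus of the reductive group `G`, `x` a cocharacter of `T`.
Locally on the base there is a cocharacter `ν` of `T` with `Z_G(ν) = T` and `P_G(ν) ⊆ P_G(x)`. -/
theorem exists_refine (hG : Red.IsReductive G) (i : T ⟶ G) (hi : Red.IsMaximalTorus i)
    {M : Type} [AddCommGroup M] (e : Grp.mk T ≅ Grp.mk (Red.DS S M)) (x : M →+ ℤ) (s : S) :
    ∃ (V : S.Opens) (_ : s ∈ V) (ν : M →+ ℤ), ∀ (S₁ : Scheme.{u}) (w : S₁ ⟶ S)
      (_ : Set.range w ⊆ (V : Set S)),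
      IsDynZ (bcLam (Red.DSmap S ν ≫ e.inv.hom.hom ≫ i) w) ((Over.pullback w).map i) ∧
      ∀ (X : Over S₁) (g : X ⟶ Red.bc w G),
        PtP (bcLam (Red.DSmap S ν ≫ e.inv.hom.hom ≫ i) w) g →
        PtP (bcLam (Red.DSmap S x ≫ e.inv.hom.hom ≫ i) w) g := by
  have hGa : IsAffineHom G.hom := hG.1
  have hGs : Smooth G.hom := hG.2.1
  have him := hi.1
  have himono := hi.2.1
  have hTt := hi.2.2.1
  have hZ := TorClosed636.isCentralizerOf_self hG hi
  have : Nonempty S := ⟨s⟩
  obtain ⟨N, hN⟩ := TorRank156.hasCone hTt ⟨e⟩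
  obtain ⟨N', hN', hN''⟩ := exists_cone_refine hN x
  let J : Red.DS S M ⟶ G := e.inv.hom.hom ≫ i
  have hJ : IsMonHom J := inferInstanceAs (IsMonHom (e.inv.hom.hom ≫ i))
  obtain ⟨hz1, hz2, hz⟩ := hZ
  have hz' : ∀ (X : Over S) (g : X ⟶ G), (∃ x : X ⟶ T, x ≫ i = g) ↔ PtT J ⊥ g := by
    intro X g
    rw [hz X g, ← commutes_iff_ptT]
    exact commutes_iff e i g
  obtain ⟨V, hsV, ν, hν⟩ := exists_nu (J := J) hN'' s
  refine ⟨V, hsV, ν, fun S₁ w hw => ?_⟩
  have hr : ∀ X : Over S₁, Set.range ((Over.map w).obj X).hom ⊆ (V : Set S) := by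
    rintro X _ ⟨x, rfl⟩
    refine hw ⟨X.hom x, ?_⟩
    exact (Scheme.Hom.comp_apply _ _ _).symm
  constructor
  · refine ⟨inferInstance, inferInstance, fun X g => ?_⟩
    rw [exists_bc_iff, hz', ptZ_bc_iff]
    exact (hν _ (hr X) _).2
  · intro X g hg
    change PtP (bcLam (lamN J x) w) g
    change PtP (bcLam (lamN J ν) w) g at hg
    rw [ptP_bc_iff] at hg ⊢
    exact ptP_of_ptT x hN' (((hν _ (hr X) _).1).2 hg)

end Groth.Agent.RedSub.H661.Refine
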