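import Groth.Agent.RedSub.H661.SmoothMul
import Groth.Agent.RedSub.H661.Refine
import Groth.Agent.RedSub.H661.Core
import Groth.Agent.Sga3B.Parab.OppFin151
import Groth.Agent.Sga3B.Parab.OppRow172
import Groth.Agent.Sga3B.BorTor988
import Groth.Agent.Sga3B.TorusEtSplit

/-!
# Two Borel subgroups meeting in a maximal torus: `B ×_S B' ⟶ G` is smooth

* `exists_dyn_borel_pair`: `T ⊆ B` a split maximal torus of `G` in the Borel subgroup `B`; locally on
  the base `B = P_G(ν)` and `T = Z_G(ν)` for a cocharacter `ν` of `T`.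
* `smooth_borels`: if `B ∩ B'` is a maximal torus then `B ×_S B' ⟶ G` is smooth.
-/

set_option autoImplicit false

universe u

open CategoryTheory MonoidalCategory CartesianMonoidalCategory MonObj GrpObj AlgebraicGeometry

namespace Groth.Agent.RedSub.H661.Borels

open Groth.Agent.Sga3B Groth.Agent.Sga3B.Parab
open Groth.Agent.Sga3B.Parab.RedCover147 Groth.Agent.Sga3B.Parab.DynExist998
open Groth.Agent.RedSub.H661

variable {S S' : Scheme.{u}}

section LocSm

variable {X X' Y : Over S}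

/-- `φ` is smooth over an étale neighbourhood of `s`. -/
def LocSm (φ : X ⟶ Y) (s : S) : Prop :=
  ∃ (S' : Scheme.{u}) (f : S' ⟶ S), Etale f ∧ s ∈ Set.range f ∧
    Smooth ((Over.pullback f).map φ).left

lemma LocSm.of_bc (f : S' ⟶ S) [Etale f] {φ : X ⟶ Y} {s' : S'}
    (h : LocSm ((Over.pullback f).map φ) s') : LocSm φ (f s') := by
  obtain ⟨U, g, hg, ⟨z, rfl⟩, h⟩ := h
  refine ⟨U, g ≫ f, inferInstance, ⟨z, Scheme.Hom.comp_apply _ _ _⟩, ?_⟩
  have h1 : (Over.pullback (g ≫ f)).map φ = (Over.pullbackComp g f).hom.app X ≫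
      (Over.pullback g).map ((Over.pullback f).map φ) ≫ (Over.pullbackComp g f).inv.app Y := by
    have := (Over.pullbackComp g f).hom.naturality φ
    rw [← Category.assoc]
    exact ((Iso.comp_inv_eq ((Over.pullbackComp g f).app Y)).2 this.symm).symm
  have e1 : IsIso ((Over.pullbackComp g f).hom.app X).left :=
    SmoothMul.isIso_left ((Over.pullbackComp g f).app X)
  have e2 : IsIso ((Over.pullbackComp g f).inv.app Y).left :=
    SmoothMul.isIso_left ((Over.pullbackComp g f).app Y).symm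
  rw [h1, Over.comp_left, Over.comp_left]
  infer_instance

lemma LocSm.of_iso_comp {φ : X ⟶ Y} (j : X' ≅ X) {s : S} (h : LocSm (j.hom ≫ φ) s) :
    LocSm φ s := by
  obtain ⟨U, f, hf, hs, h⟩ := h
  refine ⟨U, f, hf, hs, ?_⟩
  have h1 : (Over.pullback f).map φ = ((Over.pullback f).mapIso j).inv ≫
      (Over.pullback f).map (j.hom ≫ φ) := by
    rw [Functor.mapIso_inv, ← Functor.map_comp, Iso.inv_hom_id_assoc]
  have e1 : IsIso ((Over.pullback f).mapIso j).inv.left :=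
    SmoothMul.isIso_left ((Over.pullback f).mapIso j).symm
  rw [h1, Over.comp_left]
  infer_instance

lemma LocSm.of_mul_bc (f : S' ⟶ S) [Etale f] {A B G : Over S} [GrpObj G] {a : A ⟶ G} {b : B ⟶ G}
    {s' : S'} (h : LocSm (((Over.pullback f).map a ⊗ₘ (Over.pullback f).map b) ≫ μ[Red.bc f G]) s') :
    LocSm ((a ⊗ₘ b) ≫ μ[G]) (f s') := by
  rw [Dense.map_mul_comp] at h
  exact LocSm.of_bc f (LocSm.of_iso_comp (asIso (Functor.LaxMonoidal.μ (Over.pullback f) A B)) h)

lemma locSm_of_smooth {φ : X ⟶ Y} (s : S) (f : S' ⟶ S) [Etale f] (hs : s ∈ Set.range f)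
    (h : Smooth ((Over.pullback f).map φ).left) : LocSm φ s := ⟨_, f, inferInstance, hs, h⟩

lemma smooth_bc_of_mul (f : S' ⟶ S) {A B G : Over S} [GrpObj G] {a : A ⟶ G} {b : B ⟶ G}
    (h : Smooth (((Over.pullback f).map a ⊗ₘ (Over.pullback f).map b) ≫ μ[Red.bc f G]).left) :
    Smooth ((Over.pullback f).map ((a ⊗ₘ b) ≫ μ[G])).left := by
  rw [Dense.map_mul_comp, Over.comp_left] at h
  have : IsIso (Functor.LaxMonoidal.μ (Over.pullback f) A B).left :=
    SmoothMul.isIso_left (asIso (Functor.LaxMonoidal.μ (Over.pullback f) A B))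
  exact (MorphismProperty.cancel_left_of_respectsIso @Smooth _ _).1 h

/-- Smoothness is local for the étale topology of the base. -/
theorem smooth_of_locSm {φ : X ⟶ Y} (h : ∀ s, LocSm φ s) : Smooth φ.left := by
  obtain ⟨J, S', f, -, hf, hQ⟩ := exists_isEtCov h
  exact EtHom.of_cover @Smooth hf.cov φ hQ

end LocSm

variable {G B B' T : Over S} [GrpObj G] [GrpObj B] [GrpObj B'] [GrpObj T]

/-- A Borel subgroup is parabolic. -/
lemma isParabolic_of_isBorel {b : B ⟶ G} (hb : Red.IsBorel b) : Red.IsParabolic b :=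
  ⟨hb.1, hb.2.1, hb.2.2.1, fun s => by
    have h := hb.2.2.2 s
    exact ⟨h.1, h.2.1, h.2.2.1, _, inferInstance, 𝟙 _, by rwa [Category.id_comp]⟩⟩

/-- **Borel subgroups are maximal**: a homomorphism over `G` between Borel subgroups is an
isomorphism. -/
theorem isIso_of_isBorel {b : B ⟶ G} {b' : B' ⟶ G} (hb : Red.IsBorel b) (hb' : Red.IsBorel b')
    (f : B ⟶ B') (hf : f ≫ b' = b) : IsIso f := by
  have h1 : IsClosedImmersion b.left := hb.2.1
  have h2 : IsClosedImmersion b'.left := hb'.2.1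
  have h3 : Smooth B.hom := hb.2.2.1
  have h4 : Smooth B'.hom := hb'.2.2.1
  have h5 : IsClosedImmersion f.left := by
    have h6 : IsClosedImmersion (f.left ≫ b'.left) := by rw [← Over.comp_left, hf]; exact h1
    exact .of_comp f.left b'.left
  refine FibIsoSch.isIso_of_fibres f fun s => ⟨_, inferInstance, Red.geomPt s, ?_, ?_⟩
  · rw [Scheme.Hom.comp_apply]
    exact Scheme.fromSpecResidueField_apply _ _
  · obtain ⟨k1, k2, k3, k4, k5, k6⟩ := hb'.2.2.2 s
    have := k1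
    refine (hb.2.2.2 s).2.2.2.2.2 _ ((Over.pullback (Red.geomPt s)).map b') _ k2 k3 k4 k5 ?_
    rw [← Functor.map_comp, hf]

/-- **`B = P_G(ν)`, `T = Z_G(ν)` locally**, for a split maximal torus `T` of the Borel subgroup `B`. -/
theorem exists_dyn_borel_pair (hG : Red.IsReductive G) {b : B ⟶ G} (hb : Red.IsBorel b) {t : T ⟶ B}
    (hT : Red.IsMaximalTorus (t ≫ b)) {M : Type} [AddCommGroup M]
    (e : Grp.mk T ≅ Grp.mk (Red.DS S M)) (s : S) :
    ∃ (W : S.Opens) (_ : s ∈ W) (lam : Red.Gm (W : Scheme.{u}) ⟶ Red.bc W.ι G), IsMonHom lam ∧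
      IsDynP lam ((Over.pullback W.ι).map b) ∧ IsDynZ lam ((Over.pullback W.ι).map (t ≫ b)) := by
  have hbm : IsMonHom b := hb.1
  have hbc : IsClosedImmersion b.left := hb.2.1
  have hbmono : Mono b := OppRow172.mono_of_closed b hbc
  have hp := isParabolic_of_isBorel hb
  have hTB : Red.IsMaximalTorus t := BorTor988.isMaximalTorus_of_comp b t hT
  have htm : IsMonHom t := hTB.1
  obtain ⟨x, hx⟩ := exists_cochar_geom Uncond688.dynK2 hG hp hTB e s
  have hxm : IsMonHom (Red.DSmap S x) := isMonHom_DSmap x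
  obtain ⟨U, hsU, hU⟩ := exists_open_isDynP Uncond688.dynK1 Uncond688.dynK2 hG hp
    (Red.DSmap S x ≫ e.inv.hom.hom ≫ t) s (by simpa only [Category.assoc] using hx)
  obtain ⟨V, hsV, ν, hν⟩ := Refine.exists_refine hG (t ≫ b) hT e x s
  let W : S.Opens := U ⊓ V
  have hr : Set.range W.ι = (W : Set S) := by simp
  have h1 := hU W W.ι (by rw [hr]; exact inf_le_left)
  obtain ⟨h2, h3⟩ := hν W W.ι (by rw [hr]; exact inf_le_right)
  have hνm : IsMonHom (Red.DSmap S ν) := isMonHom_DSmap ν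
  have hlm : IsMonHom (Red.DSmap S ν ≫ e.inv.hom.hom ≫ t ≫ b) := inferInstance
  have hqf : LocallyQuasiFinite W.ι := Desc.LQF.of_etale W.ι
  have hG' := isReductive_bc W.ι hG
  have hGa' : IsAffineHom (Red.bc W.ι G).hom := hG'.1
  have hT' : Red.IsTorus (Red.bc W.ι T) := TorusBc.isTorus_bc W.ι hTB.2.2.1
  obtain ⟨P, _, p, hp, -⟩ := exists_isDynP (bcLam (Red.DSmap S ν ≫ e.inv.hom.hom ≫ t ≫ b) W.ι)
  have hpB : Red.IsBorel p := Refine.isBorel_of_isDynZ hG' _ h2 hT' hp
  have h4 : PtP (bcLam ((Red.DSmap S x ≫ e.inv.hom.hom ≫ t) ≫ b) W.ι) p := by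
    have := h3 P p ((hp.iff_ptP _ _).1 ⟨𝟙 _, Category.id_comp _⟩)
    simpa only [Category.assoc] using this
  obtain ⟨f, hf⟩ := (h1.iff_ptP _ _).2 h4
  have := isIso_of_isBorel hpB (isBorel_bc W.ι hb) f hf
  refine ⟨W, ⟨hsU, hsV⟩, _, inferInstance,
    OppRow172.isDynP_of_iso hp (asIso f).symm ?_ inferInstance, h2⟩
  rw [Iso.symm_hom, asIso_inv, IsIso.inv_comp_eq, hf]

/-- If two Borel subgroups meet in a maximal torus, `B ×_S B' ⟶ G` is smooth. -/
theorem smooth_borels (hG : Red.IsReductive G) {b : B ⟶ G} {b' : B' ⟶ G} {t : T ⟶ B} {t' : T ⟶ B'}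
    (hb : Red.IsBorel b) (hb' : Red.IsBorel b') (hpb : IsPullback t t' b b')
    (hT : Red.IsMaximalTorus (t ≫ b)) : Smooth ((b ⊗ₘ b') ≫ μ[G]).left := by
  refine smooth_of_locSm fun s => ?_
  -- make the torus split
  obtain ⟨R, _, v, r, hv, ⟨s₁, hs₁⟩, ⟨e⟩⟩ := TorusEtSplit.exists_etale_split T hT.2.2.1 s
  have hs₁' : v s₁ = s := hs₁
  rw [← hs₁']
  have hqf : LocallyQuasiFinite v := Desc.LQF.of_etale v
  have hG₁ := isReductive_bc v hG
  have hb₁ := isBorel_bc v hb
  have hb₁' := isBorel_bc v hb'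
  have hpb₁ := hpb.map (Over.pullback v)
  have hT₁ : Red.IsMaximalTorus ((Over.pullback v).map t ≫ (Over.pullback v).map b) := by
    rw [← Functor.map_comp]
    exact AlgBc.isMaximalTorus_bc v hT
  refine LocSm.of_mul_bc v ?_
  obtain ⟨W, hsW, lam, hlam, h1, h2⟩ := exists_dyn_borel_pair hG₁ hb₁ hT₁ e s₁
  refine locSm_of_smooth s₁ W.ι ⟨⟨s₁, hsW⟩, rfl⟩ (smooth_bc_of_mul W.ι ?_)
  have hqf' : LocallyQuasiFinite W.ι := Desc.LQF.of_etale W.ι
  have hG₂ := isReductive_bc W.ι hG₁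
  have hb₂ := isBorel_bc W.ι hb₁
  have hb₂' := isBorel_bc W.ι hb₁'
  have hpb₂ := hpb₁.map (Over.pullback W.ι)
  have hGa : IsAffineHom (Red.bc W.ι (Red.bc v G)).hom := hG₂.1
  have hGs : Smooth (Red.bc W.ι (Red.bc v G)).hom := hG₂.2.1
  rw [Functor.map_comp] at h2
  have h3 := OppMain151.isDynP_opp (OppFin151.parConn_of Uncond688.dynK2) hG₂
    (isParabolic_of_isBorel hb₂') hpb₂ lam h1 h2
  obtain ⟨U, _, u', hu', -⟩ := exists_isDynU lam
  obtain ⟨u, hu⟩ := DynLevi998.exists_uP h1 hu'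
  have h4 : IsOpenImmersion (((u ≫ (Over.pullback W.ι).map ((Over.pullback v).map b)) ⊗ₘ
      (Over.pullback W.ι).map ((Over.pullback v).map b')) ≫ μ[Red.bc W.ι (Red.bc v G)]).left := by
    rw [hu]
    refine DynCell998.isOpenImmersion_cell (lam := negLam lam) h3 ?_
    rwa [OppPts172.negLam_negLam]
  have hUs : Smooth U.hom := hu'.smooth
  have hbm := hb₂.1
  exact SmoothMul.smooth_left _ u _ hb₂.2.2.1 hUs (SmoothMul.surjective_hom U) inferInstance

/-- `P ×_S Q ⟶ G` is smooth if `P`, `Q` contain Borel subgroups meeting in a maximal torus. -/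
theorem smooth_of_body (hG : Red.IsReductive G) {P Q : Over S} [GrpObj P] [GrpObj Q] {p : P ⟶ G}
    {q : Q ⟶ G} [IsMonHom p] [IsMonHom q] (hP : Smooth P.hom) (hQ : Smooth Q.hom)
    (h : Core.Body p q) : Smooth ((p ⊗ₘ q) ≫ μ[G]).left := by
  obtain ⟨B, B', T, _, _, _, c, c', t, t', hb, hb', ht, hpb, hT⟩ := h
  exact SmoothMul.smooth_mul p q c c' hP hQ hb.2.2.1 hb'.2.2.1 (smooth_borels hG hb hb' hpb hT)

end Groth.Agent.RedSub.H661.Borels
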