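import Groth.Agent.RedSub.H661.Borels
import Groth.Agent.RedSub.H645.BorelEt

/-!
# Parabolic subgroups `P`, `Q` with `P ×_S Q ⟶ G` smooth

* `exists_borel_in`: étale locally a parabolic subgroup contains a Borel subgroup.
* `six_of_denseAt`: if `P ×_S Q ⟶ G` is dominant on the fibre over `s` then étale locally at `s` there
  are Borel subgroups of `P`, `Q` meeting in a maximal torus.
* `denseAt_of_isOpenMap`, `smooth_of_six`.
-/

set_option autoImplicit false

universe u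

open CategoryTheory MonoidalCategory CartesianMonoidalCategory MonObj GrpObj AlgebraicGeometry

namespace Groth.Agent.RedSub.H661.Main

open Groth.Agent.Sga3B Groth.Agent.Sga3B.Parab Groth.Agent.Sga3B.Parab.GeomBC147
open Groth.Agent.Sga3B.Parab.RedCover147 Groth.Agent.Sga3B.Parab.DynExist998
open Groth.Agent.RedSub.H661 Groth.Agent.RedSub.H661.SixAt Groth.Agent.RedSub.H661.Dense
open Groth.Agent.RedSub.H661.Borels

variable {S S' : Scheme.{u}} {G P Q : Over S} [GrpObj G] [GrpObj P] [GrpObj Q]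

section Open

/-- The fibres of a reductive group are irreducible. -/
lemma isIrreducible_fibre (hG : Red.IsReductive G) (s : S) : IsIrreducible (G.hom ⁻¹' {s}) := by
  have h1 : Set.range (Limits.pullback.fst G.hom (Red.geomPt s)) = G.hom ⁻¹' {s} := by
    rw [Scheme.Pullback.range_fst]
    congr 1
    ext y
    constructor
    · rintro ⟨k, rfl⟩
      rw [Set.mem_singleton_iff, Scheme.Hom.comp_apply]
      exact Scheme.fromSpecResidueField_apply _ _
    · rintro rfl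
      refine ⟨IsLocalRing.closedPoint _, ?_⟩
      rw [Scheme.Hom.comp_apply]
      exact Scheme.fromSpecResidueField_apply _ _
  have h2 : IsIntegral (Red.geomFibre s G).left :=
    isIntegral_geomFibre hG.2.1 s (hG.2.2 s).2.2.1
  have h3 : IrreducibleSpace ↥(Limits.pullback G.hom (Red.geomPt s)) :=
    inferInstanceAs (IrreducibleSpace ↥(Red.geomFibre s G).left)
  rw [← h1, ← Set.image_univ]
  exact IsIrreducible.image (IrreducibleSpace.isIrreducible_univ _) _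
    (Limits.pullback.fst G.hom (Red.geomPt s)).continuous.continuousOn

/-- If `P ×_S Q ⟶ G` is open then it is fibrewise dominant. -/
theorem denseAt_of_isOpenMap (hG : Red.IsReductive G) {p : P ⟶ G} {q : Q ⟶ G} [IsMonHom p]
    [IsMonHom q] (h : IsOpenMap ((p ⊗ₘ q) ≫ μ[G]).left) (s : S) : DenseAt p q s := by
  rw [denseAt_iff]
  intro O hO x hx hxs
  have he : lift (1 : 𝟙_ (Over S) ⟶ P) (1 : 𝟙_ (Over S) ⟶ Q) ≫ (p ⊗ₘ q) ≫ μ[G] = η[G] := by
    rw [← Category.assoc, lift_map, ← Hom.mul_def, MonObj.one_comp, MonObj.one_comp,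
      _root_.mul_one, Hom.one_def, toUnit_unique (toUnit (𝟙_ (Over S))) (𝟙 _), Category.id_comp]
  obtain ⟨y, hys, hyO, w, rfl⟩ := (isIrreducible_fibre hG s).2 O _ hO h.isOpen_range
    ⟨x, hxs, hx⟩ ⟨η[G].left s, by
      change G.hom (η[G].left s) = s
      rw [← Scheme.Hom.comp_apply, Over.w]
      rfl, by
      exact ⟨(lift (1 : 𝟙_ (Over S) ⟶ P) (1 : 𝟙_ (Over S) ⟶ Q)).left s, by
        rw [← Scheme.Hom.comp_apply, ← Over.comp_left, he]⟩⟩
  refine ⟨w, ?_, hyO⟩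
  have h1 : G.hom (((p ⊗ₘ q) ≫ μ[G]).left w) = s := hys
  rwa [← Scheme.Hom.comp_apply, Over.w] at h1

end Open

/-- **Étale locally a parabolic subgroup contains a Borel subgroup.** -/
theorem exists_borel_in (hG : Red.IsReductive G) {q : Q ⟶ G} (hq : Red.IsParabolic q) (s : S) :
    ∃ (S' : Scheme.{u}) (f : S' ⟶ S) (_ : Etale f) (_ : s ∈ Set.range f) (B : Over S')
      (_ : GrpObj B) (c : B ⟶ Red.bc f Q), Red.IsBorel (c ≫ (Over.pullback f).map q) := by
  obtain ⟨R, _, f, hf, ⟨s₁, rfl⟩, T, _, t, r, e, x, htm, ht, hT, hd⟩ :=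
    Uncond688.pcP S G Q q hG hq s
  have hqf : LocallyQuasiFinite f := Desc.LQF.of_etale f
  have hG₁ := isReductive_bc f hG
  have hqm : IsMonHom q := hq.1
  have hxm : IsMonHom (Red.DSmap (Spec (CommRingCat.of R)) x) := isMonHom_DSmap x
  obtain ⟨V, hsV, ν, hν⟩ := Refine.exists_refine hG₁ (t ≫ (Over.pullback f).map q) hT e x s₁
  obtain ⟨h2, h3⟩ := hν V V.ι (by simp)
  have hνm : IsMonHom (Red.DSmap (Spec (CommRingCat.of R)) ν) := isMonHom_DSmap ν
  have hlm : IsMonHom (Red.DSmap (Spec (CommRingCat.of R)) ν ≫ e.inv.hom.hom ≫ t ≫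
    (Over.pullback f).map q) := inferInstance
  have hqf' : LocallyQuasiFinite V.ι := Desc.LQF.of_etale V.ι
  have hG₂ := isReductive_bc V.ι hG₁
  have hGa : IsAffineHom (Red.bc V.ι (Red.bc f G)).hom := hG₂.1
  obtain ⟨B, _, b, hb, -⟩ := exists_isDynP (bcLam (Red.DSmap (Spec (CommRingCat.of R)) ν ≫
    e.inv.hom.hom ≫ t ≫ (Over.pullback f).map q) V.ι)
  have hB : Red.IsBorel b := Refine.isBorel_of_isDynZ hG₂ _ h2
    (TorusBc.isTorus_bc V.ι ht.2.2.1) hb
  obtain ⟨c, hc⟩ := ((hd.bc V.ι).iff_ptP _ _).2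
    (h3 B b ((hb.iff_ptP _ _).1 ⟨𝟙 _, Category.id_comp _⟩))
  let eQ := BcIso.bcCompIso V.ι f Q
  let eG := BcIso.bcCompIso V.ι f G
  have hqq : eQ.inv.hom.hom ≫ (Over.pullback (V.ι ≫ f)).map q =
      (Over.pullback V.ι).map ((Over.pullback f).map q) ≫ eG.inv.hom.hom :=
    symm_w eQ eG (GeomFib147.bcCompIso_natural V.ι f q)
  refine ⟨V, V.ι ≫ f, inferInstance, ⟨⟨s₁, hsV⟩, Scheme.Hom.comp_apply _ _ _⟩, B, inferInstance,
    c ≫ eQ.inv.hom.hom, ?_⟩
  rw [Category.assoc, hqq, ← Category.assoc, hc]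
  exact isBorel_comp_iso hB eG.symm

/-- Last step: `P ⊇ P_G(λ)` with `Z_G(λ)` a maximal torus, `Q ⊇ B₂` a Borel subgroup. -/
theorem six_stageD (hG : Red.IsReductive G) {p : P ⟶ G} {q : Q ⟶ G} (hp : Red.IsParabolic p)
    (hq : Red.IsParabolic q) {T B₂ : Over S} [GrpObj T] [GrpObj B₂] (i : T ⟶ G)
    (hi : Red.IsMaximalTorus i) (lam : Red.Gm S ⟶ G) [IsMonHom lam] (hz : IsDynZ lam i)
    (hlam : ∀ (X : Over S) (g : X ⟶ G), PtP lam g → ∃ x : X ⟶ P, x ≫ p = g)
    (d : B₂ ⟶ Q) (hd : Red.IsBorel (d ≫ q)) {s : S} (hs : DenseAt p q s) : Six p q s := by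
  have hGa : IsAffineHom G.hom := hG.1
  have hGs : Smooth G.hom := hG.2.1
  have hpm : IsMonHom p := hp.1
  have hqm : IsMonHom q := hq.1
  obtain ⟨B, _, b, hb, -⟩ := exists_isDynP lam
  obtain ⟨U, _, u', hu', -⟩ := exists_isDynU lam
  obtain ⟨B', _, b', hb', -⟩ := exists_isDynP (negLam lam)
  have hB : Red.IsBorel b := Refine.isBorel_of_isDynZ hG lam hz hi.2.2.1 hb
  have hB' : Red.IsBorel b' := Refine.isBorel_of_isDynZ hG (negLam lam)
    (Refine.isDynZ_neg lam hz) hi.2.2.1 hb'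
  obtain ⟨u, hu⟩ := DynLevi998.exists_uP hb hu'
  obtain ⟨t, ht⟩ := DynLevi998.exists_zP hb hz
  obtain ⟨t', ht'⟩ := DynLevi998.exists_zP hb' (Refine.isDynZ_neg lam hz)
  obtain ⟨a, ha⟩ := hlam B b ((hb.iff_ptP _ _).1 ⟨𝟙 _, Category.id_comp _⟩)
  have hpb : IsPullback t t' b b' := by
    refine OppPts172.isPullback_of_isDyn hb hb' ?_ (by rw [ht, ht'])
    rw [ht]
    exact hz
  have hcell : IsOpenImmersion (((u ≫ b) ⊗ₘ b') ≫ μ[G]).left := by
    rw [hu]
    refine DynCell998.isOpenImmersion_cell (lam := negLam lam) hb' ?_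
    rwa [OppPts172.negLam_negLam]
  have hbm : IsMonHom b := hB.1
  have hbmono : Mono b := hb.mono
  have htm : IsMonHom t := by
    have h1 : IsMonHom i := hi.1
    exact OppS172.isMonHom_of_comp t b (by rw [ht]; exact h1)
  have hum : IsMonHom u := DynLevi998.isMonHom_uP hb (by rw [hu]; exact hu')
  -- conjugacy of `P_G(-λ)` and `B₂`
  obtain ⟨S₁, f, hf, ⟨s₁, hs₁⟩, h, hh⟩ :=
    RedSub.H645.BorelEt.exists_etale_conjEq_of_isBorel hG b' (d ≫ q) hB' hd s
  have hs₁' : f s₁ = s := hs₁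
  rw [← hs₁'] at hs ⊢
  have hqf : LocallyQuasiFinite f := Desc.LQF.of_etale f
  refine Six.of_bc f ?_
  have hTr : Core.Tr ((Over.pullback f).map b') ((Over.pullback f).map q) h := by
    have h1 := Core.tr_of_conj ((RedSub.H645.ConjEqIff.conjEq_iff h).1 hh)
    exact h1.trans ((Over.pullback f).map d) (by rw [← Functor.map_comp])
  have hcell' : IsOpenImmersion ((((Over.pullback f).map u ≫ (Over.pullback f).map b) ⊗ₘ
      (Over.pullback f).map b') ≫ μ[Red.bc f G]).left := by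
    rw [← Functor.map_comp, Dense.map_mul_comp, Over.comp_left]
    have e1 : IsIso (Functor.LaxMonoidal.μ (Over.pullback f) U B').left :=
      SmoothMul.isIso_left (asIso (Functor.LaxMonoidal.μ (Over.pullback f) U B'))
    have e2 : IsOpenImmersion ((Over.pullback f).map (((u ≫ b) ⊗ₘ b') ≫ μ[G])).left :=
      MorphismProperty.of_isPullback (EtHom.isPullback_map f _) hcell
    infer_instance
  have hP' : Smooth (Red.bc f P).hom := (isParabolic_bc f hp).2.2.1
  have hQ' : Smooth (Red.bc f Q).hom := (isParabolic_bc f hq).2.2.1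
  refine Core.six_of_dense hP' hQ' (isBorel_bc f hB) (isBorel_bc f hB')
    (inferInstance : IsMonHom ((Over.pullback f).map t)) (hpb.map (Over.pullback f)) ?_
    ((Over.pullback f).map u) hcell' ((Over.pullback f).map a) ?_ h hTr (hs.bc f)
  · rw [← Functor.map_comp, ht]
    exact AlgBc.isMaximalTorus_bc f hi
  · rw [← Functor.map_comp, ha]

/-- **(iv) ⇒ (vi).** -/
theorem six_of_denseAt (hG : Red.IsReductive G) {p : P ⟶ G} {q : Q ⟶ G} (hp : Red.IsParabolic p)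
    (hq : Red.IsParabolic q) {s : S} (hs : DenseAt p q s) : Six p q s := by
  -- a Borel subgroup of `Q`
  obtain ⟨S₁, f₁, hf₁, ⟨s₁, rfl⟩, B₂, _, d, hd⟩ := exists_borel_in hG hq s
  have hqf₁ : LocallyQuasiFinite f₁ := Desc.LQF.of_etale f₁
  refine Six.of_bc f₁ ?_
  have hG₁ := isReductive_bc f₁ hG
  have hp₁ := isParabolic_bc f₁ hp
  have hq₁ := isParabolic_bc f₁ hq
  have hs₁ := hs.bc f₁
  -- `P = P_G(x)`
  obtain ⟨R, _, f₂, hf₂, ⟨s₂, rfl⟩, T, _, t, r, e, x, htm, ht, hT, hdyn⟩ :=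
    Uncond688.pcP S₁ (Red.bc f₁ G) (Red.bc f₁ P) _ hG₁ hp₁ s₁
  have hqf₂ : LocallyQuasiFinite f₂ := Desc.LQF.of_etale f₂
  refine Six.of_bc f₂ ?_
  have hG₂ := isReductive_bc f₂ hG₁
  have hp₂ := isParabolic_bc f₂ hp₁
  have hq₂ := isParabolic_bc f₂ hq₁
  have hs₂ := hs₁.bc f₂
  have hd₂ := isBorel_bc f₂ hd
  rw [Functor.map_comp] at hd₂
  -- refinement
  obtain ⟨V, hsV, ν, hν⟩ := Refine.exists_refine hG₂
    (t ≫ (Over.pullback f₂).map ((Over.pullback f₁).map p)) hT e x s₂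
  obtain ⟨h2, h3⟩ := hν V V.ι (by simp)
  have hpm : IsMonHom p := hp.1
  have hxm : IsMonHom (Red.DSmap (Spec (CommRingCat.of R)) x) := isMonHom_DSmap x
  have hνm : IsMonHom (Red.DSmap (Spec (CommRingCat.of R)) ν) := isMonHom_DSmap ν
  have hlm : IsMonHom (Red.DSmap (Spec (CommRingCat.of R)) ν ≫ e.inv.hom.hom ≫ t ≫
    (Over.pullback f₂).map ((Over.pullback f₁).map p)) := inferInstance
  have hqf₃ : LocallyQuasiFinite V.ι := Desc.LQF.of_etale V.ι
  have hs₂' : DenseAt ((Over.pullback f₂).map ((Over.pullback f₁).map p))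
    ((Over.pullback f₂).map ((Over.pullback f₁).map q)) (V.ι ⟨s₂, hsV⟩) := hs₂
  have hs₃ := hs₂'.bc V.ι
  have hd₃ := isBorel_bc V.ι hd₂
  rw [Functor.map_comp] at hd₃
  have key : Six _ _ (⟨s₂, hsV⟩ : V) := six_stageD (isReductive_bc V.ι hG₂)
    (isParabolic_bc V.ι hp₂) (isParabolic_bc V.ι hq₂) _ (AlgBc.isMaximalTorus_bc V.ι hT) _ h2
    (fun X g hg => ((hdyn.bc V.ι).iff_ptP X g).2 (h3 X g hg)) _ hd₃ hs₃
  exact key.of_bc V.ι

/-- **(vi) ⇒ (ii).** -/
theorem smooth_of_six (hG : Red.IsReductive G) {p : P ⟶ G} {q : Q ⟶ G} (hp : Red.IsParabolic p)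
    (hq : Red.IsParabolic q) (h : ∀ s, Six p q s) : Smooth ((p ⊗ₘ q) ≫ μ[G]).left := by
  refine smooth_of_locSm fun s => ?_
  obtain ⟨U, f, hf, hs, hB⟩ := h s
  have hqf : LocallyQuasiFinite f := Desc.LQF.of_etale f
  have hp' := isParabolic_bc f hp
  have hq' := isParabolic_bc f hq
  have hpm : IsMonHom ((Over.pullback f).map p) := hp'.1
  have hqm : IsMonHom ((Over.pullback f).map q) := hq'.1
  exact locSm_of_smooth s f hs (smooth_bc_of_mul f (smooth_of_body (isReductive_bc f hG)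
    hp'.2.2.1 hq'.2.2.1 hB))

end Groth.Agent.RedSub.H661.Main
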