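import Groth.Agent.Sga3B.AlgBc2
import Groth.Agent.Sga3B.Parab.GeomFib147
import Groth.Agent.Sga3B.Parab.EtHom
import Groth.Prelude.Def_RedSub

/-!
# Borel subgroups in transversal position: the étale local condition

`Six p q s`: over an étale neighbourhood of `s` there are Borel subgroups `B ⊆ P`, `B' ⊆ Q` whose
intersection is a maximal torus.  It is local for the étale topology.

`DenseAt p q s`: `P ×_S Q ⟶ G` is dominant on the fibre over `s`.  It is stable under étale base
change.
-/

set_option autoImplicit false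

universe u

open CategoryTheory MonoidalCategory CartesianMonoidalCategory MonObj GrpObj AlgebraicGeometry

namespace Groth.Agent.RedSub.H661.SixAt

open Groth.Agent.Sga3B Groth.Agent.Sga3B.Parab Groth.Agent.Sga3B.Parab.GeomBC147

variable {S S' : Scheme.{u}} {G P Q : Over S} [GrpObj G] [GrpObj P] [GrpObj Q]

/-- Transport of Borel subgroups along isomorphisms of the ambient group. -/
theorem isBorel_comp_iso {B G G' : Over S} [GrpObj B] [GrpObj G] [GrpObj G'] {b : B ⟶ G}
    (hb : Red.IsBorel b) (e : Grp.mk G ≅ Grp.mk G') : Red.IsBorel (b ≫ e.hom.hom.hom) := by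
  obtain ⟨h1, h2, h3, h4⟩ := hb
  have hi : IsIso e.hom.hom.hom := (isoOf e).isIso_hom
  have hil : IsIso e.hom.hom.hom.left := inferInstance
  refine ⟨inferInstance, ?_, h3, fun s => ?_⟩
  · rw [Over.comp_left]
    exact MorphismProperty.comp_mem _ _ _ h2 (inferInstance : IsClosedImmersion e.hom.hom.hom.left)
  · refine isBorelOver_of_iso (Iso.refl _) (BcIso.bcMapIso (Red.geomPt s) e) ?_ (h4 s)
    rw [Functor.map_comp]
    exact Category.id_comp _

/-- Transport of maximal tori along isomorphisms of the ambient group. -/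
theorem isMaximalTorus_comp_iso {T G G' : Over S} [GrpObj T] [GrpObj G] [GrpObj G'] {t : T ⟶ G}
    (ht : Red.IsMaximalTorus t) (e : Grp.mk G ≅ Grp.mk G') :
    Red.IsMaximalTorus (t ≫ e.hom.hom.hom) :=
  AlgBc.isMaximalTorus_of_arrow (Iso.refl _) e (Category.id_comp _).symm ht

/-- A cartesian square remains so after composing both legs with a monomorphism. -/
lemma isPullback_comp_mono {C : Type*} [Category C] {T B B' X Y : C} {t : T ⟶ B} {t' : T ⟶ B'}
    {b : B ⟶ X} {b' : B' ⟶ X} (h : IsPullback t t' b b') (e : X ⟶ Y) [Mono e] :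
    IsPullback t t' (b ≫ e) (b' ≫ e) := by
  refine IsPullback.mk ⟨by rw [← Category.assoc, h.w, Category.assoc]⟩
    ⟨Limits.PullbackCone.IsLimit.mk _ (fun s => h.lift s.fst s.snd ?_) ?_ ?_ ?_⟩
  · have := s.condition
    rwa [← Category.assoc, ← Category.assoc, cancel_mono] at this
  · intro s
    exact h.lift_fst _ _ _
  · intro s
    exact h.lift_snd _ _ _
  · intro s m h1 h2
    apply h.hom_ext
    · rw [h1, h.lift_fst]
    · rw [h2, h.lift_snd]

/-- Over an étale neighbourhood of `s` there are Borel subgroups `B ⊆ P`, `B' ⊆ Q` such that `B ∩ B'`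
is a maximal torus. -/
def Six (p : P ⟶ G) (q : Q ⟶ G) (s : S) : Prop :=
  ∃ (U : Scheme.{u}) (f : U ⟶ S) (_ : Etale f), s ∈ Set.range f.base ∧
    ∃ (B B' T : Over U) (_ : GrpObj B) (_ : GrpObj B') (_ : GrpObj T) (c : B ⟶ Red.bc f P)
      (c' : B' ⟶ Red.bc f Q) (t : T ⟶ B) (t' : T ⟶ B'),
      Red.IsBorel (c ≫ (Over.pullback f).map p) ∧ Red.IsBorel (c' ≫ (Over.pullback f).map q) ∧
      IsMonHom t ∧ IsPullback t t' (c ≫ (Over.pullback f).map p) (c' ≫ (Over.pullback f).map q) ∧
      Red.IsMaximalTorus (t ≫ c ≫ (Over.pullback f).map p)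

/-- `Six` is local for the étale topology. -/
theorem Six.of_bc (f : S' ⟶ S) [Etale f] {p : P ⟶ G} {q : Q ⟶ G} {s' : S'}
    (h : Six ((Over.pullback f).map p) ((Over.pullback f).map q) s') : Six p q (f s') := by
  obtain ⟨U, g, hg, ⟨z, rfl⟩, B, B', T, _, _, _, c, c', t, t', h1, h2, h3, h4, h5⟩ := h
  let eP := BcIso.bcCompIso g f P
  let eQ := BcIso.bcCompIso g f Q
  let eG := BcIso.bcCompIso g f G
  have hp : eP.inv.hom.hom ≫ (Over.pullback (g ≫ f)).map p =
      (Over.pullback g).map ((Over.pullback f).map p) ≫ eG.inv.hom.hom :=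
    symm_w eP eG (GeomFib147.bcCompIso_natural g f p)
  have hq : eQ.inv.hom.hom ≫ (Over.pullback (g ≫ f)).map q =
      (Over.pullback g).map ((Over.pullback f).map q) ≫ eG.inv.hom.hom :=
    symm_w eQ eG (GeomFib147.bcCompIso_natural g f q)
  have hm : Mono eG.inv.hom.hom := by
    have : IsIso eG.symm.hom.hom.hom := (isoOf eG.symm).isIso_hom
    exact (inferInstance : Mono eG.symm.hom.hom.hom)
  have k1 : (c ≫ eP.inv.hom.hom) ≫ (Over.pullback (g ≫ f)).map p =
      (c ≫ (Over.pullback g).map ((Over.pullback f).map p)) ≫ eG.inv.hom.hom := by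
    rw [Category.assoc, Category.assoc, hp]
  have k2 : (c' ≫ eQ.inv.hom.hom) ≫ (Over.pullback (g ≫ f)).map q =
      (c' ≫ (Over.pullback g).map ((Over.pullback f).map q)) ≫ eG.inv.hom.hom := by
    rw [Category.assoc, Category.assoc, hq]
  refine ⟨U, g ≫ f, inferInstance, ⟨z, Scheme.Hom.comp_apply _ _ _⟩, B, B', T, inferInstance,
    inferInstance, inferInstance, c ≫ eP.inv.hom.hom, c' ≫ eQ.inv.hom.hom, t, t', ?_, ?_, h3, ?_, ?_⟩
  · rw [k1]
    exact isBorel_comp_iso h1 eG.symm
  · rw [k2]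
    exact isBorel_comp_iso h2 eG.symm
  · rw [k1, k2]
    exact isPullback_comp_mono h4 _
  · rw [k1]
    have := isMaximalTorus_comp_iso h5 eG.symm
    rwa [Category.assoc] at this

end Groth.Agent.RedSub.H661.SixAt
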